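import Cfsg.Agent.Lib.SpShort.Model

/-!
# A regular unipotent element of the symplectic group
-/

namespace CfsgLib.SympReg

open Matrix hiding mul_apply one_apply
open CfsgLib.SympGen
open CfsgLib.SympTransvection (tv)
open CfsgLib.TwoGenCl.Symp
open CfsgLib.SpShort

variable {F : Type*} [Field F] {N : ℕ}

local notation "Vec" => (Fin (N + 2) ⊕ Fin (N + 2) → F)
local notation "V" => (Fin (N + 2) → F)
local notation "flp" => CfsgLib.TwoGenCl.Symp.flip
local notation "SpN" => Matrix.symplecticGroup (Fin (N + 2)) F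

/-- The unit vector of position `p`. -/
def ev1 (F : Type*) [Field F] (N p : ℕ) : Fin (N + 2) → F := fun q => if q.val = p then 1 else 0

theorem ev1_eq (q : Fin (N + 2)) : ev1 F N q.val = bv q := by
  funext p; simp [ev1, Pi.single_apply, Fin.ext_iff]

theorem topv_ev1 (q : Fin (N + 2)) : topv (ev1 F N q.val) = (el q : Vec) := by rw [ev1_eq, topv_bv]

/-- The last index. -/
abbrev lst (N : ℕ) : Fin (N + 2) := Fin.last (N + 1)

theorem lst_ne_zero : lst N ≠ 0 := by simp [Fin.ext_iff]

/-- The Jordan block. -/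
def jm (F : Type*) [Field F] (n : ℕ) : Matrix (Fin n) (Fin n) F :=
  Matrix.of fun i j => if i.val = j.val then 1 else if i.val + 1 = j.val then 1 else 0

/-- Its inverse. -/
def jmi (F : Type*) [Field F] (n : ℕ) : Matrix (Fin n) (Fin n) F :=
  Matrix.of fun i j => if i.val ≤ j.val then (-1) ^ (j.val - i.val) else 0

theorem jm_mulVec {n : ℕ} (x : Fin n → F) (i : Fin n) :
    (jm F n *ᵥ x) i = x i + (if h : i.val + 1 < n then x ⟨i.val + 1, h⟩ else 0) := by
  simp only [Matrix.mulVec, dotProduct, jm, Matrix.of_apply, ite_mul, one_mul, zero_mul]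
  have e : ∀ j : Fin n, (if i.val = j.val then x j else if i.val + 1 = j.val then x j else 0) =
      (if j = i then x j else 0) + (if i.val + 1 = j.val then x j else 0) := by
    intro j
    by_cases h : i.val = j.val
    · rw [if_pos h, if_pos (Fin.ext h.symm), if_neg (by omega), add_zero]
    · rw [if_neg h, if_neg (fun e : j = i => h (by rw [e])), zero_add]
  rw [Finset.sum_congr rfl fun j _ => e j, Finset.sum_add_distrib, Finset.sum_ite_eq', if_pos (Finset.mem_univ _)]
  congr 1
  split_ifs with h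
  · rw [Finset.sum_eq_single ⟨i.val + 1, h⟩]
    · simp
    · intro j _ hj; rw [if_neg fun e => hj (Fin.ext e.symm)]
    · simp
  · exact Finset.sum_eq_zero fun j _ => if_neg (by omega)

theorem jm_mul_jmi (n : ℕ) : jm F n * jmi F n = 1 := by
  refine Matrix.ext fun i j => ?_
  have e : (jm F n * jmi F n) i j = (jm F n *ᵥ fun l => jmi F n l j) i := rfl
  rw [e, jm_mulVec]
  simp only [jmi, Matrix.of_apply, Matrix.one_apply]
  rcases lt_trichotomy i.val j.val with h | h | h
  · have hh : i.val + 1 < n := by omega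
    have hne : ¬ i = j := fun e => by subst e; omega
    rw [if_pos h.le, dif_pos hh, if_pos (show i.val + 1 ≤ j.val by omega), if_neg hne,
      show j.val - i.val = (j.val - (i.val + 1)) + 1 by omega, pow_succ]
    ring
  · have hij : i = j := Fin.ext h
    subst hij
    simp
  · have hne : ¬ i = j := fun e => by subst e; omega
    rw [if_neg (show ¬ i.val ≤ j.val by omega), if_neg hne, zero_add]
    split_ifs with h1 h2
    · exfalso; omega
    all_goals rfl

/-- The Jordan block as an invertible matrix. -/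
def jg (F : Type*) [Field F] (n : ℕ) : GL (Fin n) F :=
  ⟨jm F n, jmi F n, jm_mul_jmi n, mul_eq_one_comm.1 (jm_mul_jmi n)⟩

theorem gv_jg_ev1_succ (p : ℕ) (hp : p + 1 < N + 2) :
    gv (jg F (N + 2)) (ev1 F N (p + 1)) = ev1 F N (p + 1) + ev1 F N p := by
  funext i
  show (jm F (N + 2) *ᵥ ev1 F N (p + 1)) i = _
  rw [jm_mulVec]
  simp only [ev1, Pi.add_apply]
  congr 1
  split_ifs <;> first | rfl | (exfalso; simp_all; omega) | (exfalso; omega)

theorem gv_jg_ev1_zero : gv (jg F (N + 2)) (ev1 F N 0) = ev1 F N 0 := by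
  funext i
  show (jm F (N + 2) *ᵥ ev1 F N 0) i = _
  rw [jm_mulVec]
  simp [ev1]

/-- The regular unipotent element. -/
def uE (F : Type*) [Field F] (N : ℕ) : Matrix.symplecticGroup (Fin (N + 2)) F :=
  levi (jg F (N + 2)) * tv (el (lst N)) 1

theorem uE_topv (x : V) : (uE F N).1 *ᵥ topv x = topv (gv (jg F (N + 2)) x) := by
  rw [uE, mul_apply, tv_apply]
  have : B (topv x : Vec) (el (lst N)) = 0 := by
    rw [← topv_bv, B_topv]; simp [topv, Function.comp_def]
  rw [this, mul_zero, zero_smul, add_zero, levi_topv]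

/-- Weights along which the element raises. -/
def rk (N : ℕ) : Fin (N + 2) ⊕ Fin (N + 2) → ℕ :=
  Sum.elim (fun i => 2 * N + 3 - i.val) fun i => i.val

theorem pow_strict {ι : Type*} [Fintype ι] [DecidableEq ι] (r : ι → ℕ) (M : Matrix ι ι F)
    (h0 : ∀ a b, M a b ≠ 0 → r b + 1 ≤ r a) (k : ℕ) :
    ∀ a b, (M ^ k) a b ≠ 0 → r b + k ≤ r a := by
  induction k with
  | zero =>
    intro a b h
    rw [pow_zero, Matrix.one_apply] at h
    split_ifs at h with e
    · subst e; simp
    · exact absurd rfl h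
  | succ k ih =>
    intro a b h
    rw [pow_succ, Matrix.mul_apply] at h
    obtain ⟨c, -, hc⟩ := Finset.exists_ne_zero_of_sum_ne_zero h
    have := ih a c (left_ne_zero_of_mul hc)
    have := h0 c b (right_ne_zero_of_mul hc)
    omega

theorem pow_super {ι : Type*} [Fintype ι] [DecidableEq ι] (r : ι → ℕ) (hr : Function.Injective r)
    (M : Matrix ι ι F) (h0 : ∀ a b, M a b ≠ 0 → r b + 1 ≤ r a)
    (h1 : ∀ a b, r a = r b + 1 → M a b ≠ 0) (L : ℕ) (hs : ∀ k ≤ L, ∃ a, r a = k) (k : ℕ) :
    ∀ a b, r a = r b + k → r a ≤ L → (M ^ k) a b ≠ 0 := by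
  induction k with
  | zero =>
    intro a b h _
    rw [pow_zero, hr (by simpa using h : r a = r b), Matrix.one_apply_eq]
    exact one_ne_zero
  | succ k ih =>
    intro a b h hL
    obtain ⟨c, hc⟩ := hs (r b + 1) (by omega)
    rw [pow_succ, Matrix.mul_apply, Finset.sum_eq_single c]
    · exact mul_ne_zero (ih a c (by omega) hL) (h1 c b hc)
    · intro d _ hd
      by_contra hne
      have h2 := pow_strict r M h0 k a d (left_ne_zero_of_mul hne)
      have h3 := h0 d b (right_ne_zero_of_mul hne)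
      exact hd (hr (by omega))
    · simp

theorem uE_coe : (uE F N).1 = Matrix.fromBlocks (jm F (N + 2))
    (jm F (N + 2) * Matrix.single (lst N) (lst N) 1) 0 ((jmi F (N + 2)).transpose) := by
  refine Matrix.ext_of_mulVec_single fun j => ?_
  rw [uE, mul_apply, tv_apply, levi_inl, Matrix.fromBlocks_mulVec]
  have e : B (Pi.single j 1 : Vec) (el (lst N)) = (Pi.single j 1 : Vec) (Sum.inr (lst N)) := by
    rw [← topv_bv, B_topv]; simp [Function.comp_def]
  rw [e, one_mul]
  congr 1
  · show jm F (N + 2) *ᵥ _ = _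
    rw [← Matrix.mulVec_mulVec, ← Matrix.mulVec_add]
    congr 1
    funext p
    simp only [Function.comp_apply, Pi.add_apply, Pi.smul_apply, el, smul_eq_mul, Matrix.single_mulVec]
    simp [Pi.single_apply, Function.update_apply]
  · show (jmi F (N + 2)).transpose *ᵥ _ = _
    rw [Matrix.zero_mulVec, zero_add]
    congr 1
    funext p
    simp [el]

theorem rk_injective : Function.Injective (rk N) := by
  rintro (a | a) (b | b) h <;> simp only [rk, Sum.elim_inl, Sum.elim_inr] at h <;>
    first | (exact congrArg _ (Fin.ext (by omega))) | (exfalso; omega)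

theorem regular : IsNilpotent ((uE F N).1 - 1) ∧ ((uE F N).1 - 1) ^ (2 * (N + 2) - 1) ≠ 0 := by
  set M := (uE F N).1 - 1 with hM
  have hJ : ∀ (a b : Fin (N + 2)), (jm F (N + 2)) a b - (if a = b then (1 : F) else 0) =
      if a.val + 1 = b.val then 1 else 0 := by
    intro a b
    simp only [jm, Matrix.of_apply]
    by_cases h : a = b
    · subst h; simp
    · rw [if_neg (fun e => h (Fin.ext e)), if_neg h, sub_zero]
  have hJE : ∀ (a b : Fin (N + 2)), (jm F (N + 2) * Matrix.single (lst N) (lst N) (1 : F) : Matrix _ _ F) a b =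
      if b = lst N then (if a.val = N + 1 then 1 else if a.val + 1 = N + 1 then 1 else 0) else 0 := by
    intro a b
    by_cases h : b = lst N
    · subst h; rw [Matrix.mul_single_apply_same, if_pos rfl, mul_one]; simp [jm]
    · rw [Matrix.mul_single_apply_of_ne _ _ _ _ _ h, if_neg h]
  have e11 : ∀ a b, M (Sum.inl a) (Sum.inl b) = if a.val + 1 = b.val then 1 else 0 := fun a b => by
    rw [← hJ, hM, uE_coe]; simp [Matrix.one_apply]
  have e12 : ∀ a b, M (Sum.inl a) (Sum.inr b) =
      if b = lst N then (if a.val = N + 1 then 1 else if a.val + 1 = N + 1 then 1 else 0) else 0 := fun a b => by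
    rw [← hJE, hM, uE_coe]; simp [Matrix.one_apply]
  have e21 : ∀ a b, M (Sum.inr a) (Sum.inl b) = 0 := fun a b => by
    rw [hM, uE_coe]; simp [Matrix.one_apply]
  have e22 : ∀ a b, M (Sum.inr a) (Sum.inr b) = if b.val < a.val then (-1) ^ (a.val - b.val) else 0 := fun a b => by
    rw [hM, uE_coe]
    simp only [Matrix.sub_apply, Matrix.fromBlocks_apply₂₂, Matrix.transpose_apply, jmi, Matrix.of_apply,
      Matrix.one_apply, Sum.inr.injEq]
    rcases lt_trichotomy b.val a.val with h | h | h
    · rw [if_pos h.le, if_neg (fun e => by rw [e] at h; omega), if_pos h, sub_zero]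
    · have hab : b = a := Fin.ext h
      subst hab; simp
    · rw [if_neg (by omega), if_neg (fun e => by rw [e] at h; omega), if_neg (by omega), sub_zero]
  have h0 : ∀ a b, M a b ≠ 0 → rk N b + 1 ≤ rk N a := by
    rintro (a | a) (b | b) h
    · rw [e11] at h
      split_ifs at h with h1
      · simp only [rk, Sum.elim_inl]; omega
      · exact absurd rfl h
    · rw [e12] at h
      simp only [rk, Sum.elim_inl, Sum.elim_inr]
      split_ifs at h with h1 h2 h3
      · have := congrArg Fin.val h1; simp at this; omega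
      · have := congrArg Fin.val h1; simp at this; omega
      all_goals exact absurd rfl h
    · exact absurd (e21 a b) h
    · rw [e22] at h
      split_ifs at h with h1
      · simp only [rk, Sum.elim_inr]; omega
      · exact absurd rfl h
  have h1 : ∀ a b, rk N a = rk N b + 1 → M a b ≠ 0 := by
    rintro (a | a) (b | b) h <;> simp only [rk, Sum.elim_inl, Sum.elim_inr] at h
    · rw [e11, if_pos (by omega)]; exact one_ne_zero
    · rw [e12, if_pos (Fin.ext (by simp; omega)), if_pos (by omega)]; exact one_ne_zero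
    · exfalso; omega
    · rw [e22, if_pos (by omega)]; exact pow_ne_zero _ (neg_ne_zero.2 one_ne_zero)
  refine ⟨⟨2 * N + 4, ?_⟩, fun h => ?_⟩
  · ext a b
    by_contra hne
    have := pow_strict (rk N) M h0 _ a b hne
    rcases a with a | a <;> simp only [rk, Sum.elim_inl, Sum.elim_inr] at this <;> omega
  · refine pow_super (rk N) rk_injective M h0 h1 (2 * N + 3) (fun k hk => ?_) (2 * (N + 2) - 1)
      (Sum.inl 0) (Sum.inr 0) (by simp [rk]; omega) (by simp [rk]) (by rw [h]; rfl)
    by_cases hk2 : k < N + 2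
    · exact ⟨Sum.inr ⟨k, hk2⟩, rfl⟩
    · exact ⟨Sum.inl ⟨2 * N + 3 - k, by omega⟩, by simp [rk]; omega⟩

/-- The subgroup holds the upper unitriangular element of `S`. -/
def InH (H : Subgroup SpN) (S : Matrix (Fin (N + 2)) (Fin (N + 2)) F) : Prop := ∃ g ∈ H, UT g S

variable {H : Subgroup (Matrix.symplecticGroup (Fin (N + 2)) F)}

theorem InH.zero : InH H 0 := ⟨1, one_mem _, UT.one⟩

theorem InH.add {S T : Matrix (Fin (N + 2)) (Fin (N + 2)) F} (hS : InH H S) (hT : InH H T) : InH H (S + T) := by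
  obtain ⟨g, hg, hg'⟩ := hS
  obtain ⟨k, hk, hk'⟩ := hT
  exact ⟨g * k, mul_mem hg hk, hg'.mul hk'⟩

theorem InH.neg {S : Matrix (Fin (N + 2)) (Fin (N + 2)) F} (hS : InH H S) : InH H (-S) := by
  obtain ⟨g, hg, hg'⟩ := hS
  exact ⟨g⁻¹, inv_mem hg, hg'.inv⟩

theorem InH.sub {S T : Matrix (Fin (N + 2)) (Fin (N + 2)) F} (hS : InH H S) (hT : InH H T) : InH H (S - T) := by
  rw [sub_eq_add_neg]
  exact hS.add hT.neg

/-- The rank one symmetric matrix. -/
def sq (c : F) (x : V) : Matrix (Fin (N + 2)) (Fin (N + 2)) F := c • vecMulVec x x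

theorem inH_sq_iff {c : F} {x : V} : InH H (sq c x) ↔ tv (topv x) c ∈ H := by
  constructor
  · rintro ⟨g, hg, hg'⟩
    rwa [UT.eq hg' (UT_tv x c)] at hg
  · exact fun h => ⟨_, h, UT_tv x c⟩

theorem tv_move {g : SpN} (hg : g ∈ H) {w w' : Vec} {c : F} (h : tv w c ∈ H) (e : g.1 *ᵥ w = w') :
    tv w' c ∈ H := by
  rw [← e, ← conj_tv]
  exact mul_mem (mul_mem hg h) (inv_mem hg)

theorem UT.conj_levi (A : GL (Fin (N + 2)) F) {m : SpN} {S : Matrix (Fin (N + 2)) (Fin (N + 2)) F} (hm : UT m S) :
    UT (levi A * m * (levi A)⁻¹) (A.1 * S * A.1.transpose) := by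
  intro x
  rw [← map_inv, mul_apply, mul_apply, levi_inl A⁻¹, hm, levi_inl A]
  have eA : A.1 * (A⁻¹ : GL (Fin (N + 2)) F).1 = 1 := by rw [← Units.val_mul, mul_inv_cancel, Units.val_one]
  simp only [Sum.elim_comp_inl, Sum.elim_comp_inr, inv_inv]
  congr 1
  · rw [Matrix.mulVec_add, Matrix.mulVec_mulVec, eA, Matrix.one_mulVec, Matrix.mulVec_mulVec, Matrix.mulVec_mulVec]
  · rw [Matrix.mulVec_mulVec, ← Matrix.transpose_mul, eA, Matrix.transpose_one, Matrix.one_mulVec]

theorem UT.comm {g m : SpN} {S T : Matrix (Fin (N + 2)) (Fin (N + 2)) F} (hg : UT g S) (hm : UT m T) :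
    g * m = m * g := (hg.mul hm).eq (add_comm T S ▸ hm.mul hg)

theorem UT.conj_uE {m : SpN} {S : Matrix (Fin (N + 2)) (Fin (N + 2)) F} (hm : UT m S) :
    UT (uE F N * m * (uE F N)⁻¹) ((jg F (N + 2)).1 * S * (jg F (N + 2)).1.transpose) := by
  have e : uE F N * m * (uE F N)⁻¹ = levi (jg F (N + 2)) * m * (levi (jg F (N + 2)))⁻¹ := by
    have h := UT.comm (UT_tv (bv (lst N)) (1 : F)) hm
    rw [topv_bv] at h
    rw [uE]
    calc levi (jg F (N + 2)) * tv (el (lst N)) 1 * m * (levi (jg F (N + 2)) * tv (el (lst N)) 1)⁻¹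
        = levi (jg F (N + 2)) * (tv (el (lst N)) 1 * m) * (tv (el (lst N)) 1)⁻¹ * (levi (jg F (N + 2)))⁻¹ := by group
      _ = _ := by rw [h]; group
  rw [e]
  exact UT.conj_levi _ hm

/-- The difference operator. -/
def dl (S : Matrix (Fin (N + 2)) (Fin (N + 2)) F) : Matrix (Fin (N + 2)) (Fin (N + 2)) F :=
  (jg F (N + 2)).1 * S * (jg F (N + 2)).1.transpose - S

theorem InH.dl (hu : uE F N ∈ H) {S : Matrix (Fin (N + 2)) (Fin (N + 2)) F} (hS : InH H S) :
    InH H (SympReg.dl S) := by
  obtain ⟨g, hg, hg'⟩ := hS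
  exact InH.sub ⟨_, mul_mem (mul_mem hu hg) (inv_mem hu), UT.conj_uE hg'⟩ ⟨g, hg, hg'⟩

theorem dl_vec (c : F) (x y : V) : dl (c • vecMulVec x y) =
    c • vecMulVec (gv (jg F (N + 2)) x) (gv (jg F (N + 2)) y) - c • vecMulVec x y := by
  rw [dl, Matrix.mul_smul, Matrix.smul_mul, mul_vecMulVec, vecMulVec_mul, vecMul_transpose]
  rfl

theorem dl_add (S T : Matrix (Fin (N + 2)) (Fin (N + 2)) F) : dl (S + T) = dl S + dl T := by
  rw [dl, dl, dl, Matrix.mul_add, Matrix.add_mul]; abel

theorem dl_sub (S T : Matrix (Fin (N + 2)) (Fin (N + 2)) F) : dl (S - T) = dl S - dl T := by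
  rw [dl, dl, dl, Matrix.mul_sub, Matrix.sub_mul]; abel

/-- The symmetrised product. -/
def sy (c : F) (x y : V) : Matrix (Fin (N + 2)) (Fin (N + 2)) F := c • vecMulVec x y + c • vecMulVec y x

theorem sq_add (c : F) (x y : V) : sq c (x + y) = sq c x + sq c y + sy c x y := by
  simp only [sq, sy, vecMulVec_add, add_vecMulVec, smul_add]; abel

theorem sq_smul (c t : F) (x : V) : sq c (t • x) = sq (c * t * t) x := by
  simp only [sq, smul_vecMulVec, vecMulVec_smul, smul_smul, mul_assoc]

theorem sy_smul_right (c t : F) (x y : V) : sy c x (t • y) = sy (c * t) x y := by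
  simp only [sy, smul_vecMulVec, vecMulVec_smul, smul_smul]

theorem sy_smul_left (c t : F) (x y : V) : sy c (t • x) y = sy (c * t) x y := by
  simp only [sy, smul_vecMulVec, vecMulVec_smul, smul_smul]

theorem sy_add_left (c : F) (x x' y : V) : sy c (x + x') y = sy c x y + sy c x' y := by
  simp only [sy, vecMulVec_add, add_vecMulVec, smul_add]; abel

theorem sy_comm (c : F) (x y : V) : sy c x y = sy c y x := by simp only [sy]; abel

theorem dl_sq (c : F) (x : V) : dl (sq c x) = sq c (gv (jg F (N + 2)) x) - sq c x := dl_vec c x x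

theorem dl_sy (c : F) (x y : V) :
    dl (sy c x y) = sy c (gv (jg F (N + 2)) x) (gv (jg F (N + 2)) y) - sy c x y := by
  simp only [sy, dl_add, dl_vec]; abel

/-- Additive closure under a scaling gives everything. -/
theorem closed_all [Finite F] (A : AddSubgroup F) (σ : F) (hgen : ∀ a : F, ∃ P : Polynomial ℤ, Polynomial.aeval σ P = a)
    {a0 : F} (h0 : a0 ∈ A) (hne : a0 ≠ 0) (hs : ∀ a ∈ A, σ * a ∈ A) : A = ⊤ := by
  rw [eq_top_iff]
  intro b _
  obtain ⟨P, hP⟩ := hgen (b / a0)
  have key : ∀ Q : Polynomial ℤ, Polynomial.aeval σ Q * a0 ∈ A := by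
    intro Q
    induction Q using Polynomial.induction_on' with
    | add p q hp hq => rw [map_add, add_mul]; exact add_mem hp hq
    | monomial k z =>
      have hk : σ ^ k * a0 ∈ A := by
        induction k with
        | zero => simpa using h0
        | succ k ih => rw [pow_succ', mul_assoc]; exact hs _ ih
      rw [Polynomial.aeval_monomial, mul_assoc]
      simpa [zsmul_eq_mul] using zsmul_mem hk z
  have := key P
  rwa [hP, div_mul_cancel₀ _ hne] at this

end CfsgLib.SympReg
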