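import Cfsg.Agent.Lib.SympReg.Main

/-!
# The second conjugate, the small case, and the conclusion
-/

namespace CfsgLib.SympReg

open Matrix hiding mul_apply one_apply
open CfsgLib.SympGen
open CfsgLib.SympTransvection (tv)
open CfsgLib.TwoGenCl.Symp
open CfsgLib.SpShort

variable {F : Type*} [Field F] [Finite F] {N : ℕ}

local notation "Vec" => (Fin (N + 2) ⊕ Fin (N + 2) → F)
local notation "V" => (Fin (N + 2) → F)
local notation "flp" => CfsgLib.TwoGenCl.Symp.flip
local notation "SpN" => Matrix.symplecticGroup (Fin (N + 2)) F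

/-- A conjugating element leaves a root element of the centre. -/
theorem exists_second_big (hN : 1 ≤ N) : ∃ g : SpN, ∀ H : Subgroup SpN, uE F N ∈ H →
    g * uE F N * g⁻¹ ∈ H → (1 : F) ∈ gam H := by
  let g : SpN := tv (topv (ev1 F N 1)) 1 * tv (topv (ev1 F N 0 + ev1 F N 2)) (-1) *
    tv (topv (ev1 F N 0)) 1 * tv (topv (ev1 F N 2)) 1
  refine ⟨g, fun H hu hg => ?_⟩
  have hU : UT g (sq 1 (ev1 F N 1) + sq (-1) (ev1 F N 0 + ev1 F N 2) + sq 1 (ev1 F N 0) + sq 1 (ev1 F N 2)) :=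
    (((UT_tv _ _).mul (UT_tv _ _)).mul (UT_tv _ _)).mul (UT_tv _ _)
  set S := sq 1 (ev1 F N 1) + sq (-1) (ev1 F N 0 + ev1 F N 2) + sq 1 (ev1 F N 0) + sq (1 : F) (ev1 F N 2)
  have h : InH H (S + -((jg F (N + 2)).1 * S * (jg F (N + 2)).1.transpose)) :=
    ⟨g * (uE F N * g * (uE F N)⁻¹)⁻¹, by
      have := mul_mem hg (inv_mem hu)
      convert this using 1
      group, hU.mul (UT.conj_uE hU).inv⟩
  have e : S + -((jg F (N + 2)).1 * S * (jg F (N + 2)).1.transpose) = -sq 1 (ev1 F N 0) := by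
    rw [← sub_eq_add_neg, ← neg_sub, show (jg F (N + 2)).1 * S * (jg F (N + 2)).1.transpose - S = dl S from rfl]
    congr 1
    simp only [S, dl_add, dl_sq, gv_add, gv_jg_ev1_zero, gv_jg_ev1_succ (F := F) (N := N) 0 (by omega),
      gv_jg_ev1_succ (F := F) (N := N) 1 (by omega)]
    ext i j
    simp [sq, vecMulVec_apply]
    ring
  rw [e] at h
  simpa [mem_gam] using h.neg

theorem jm_two : jm F (0 + 2) = !![1, 1; 0, 1] := by
  ext i j; fin_cases i <;> fin_cases j <;> simp [jm]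

/-- The same in the smallest dimension. -/
theorem exists_second_small (c : F) : ∃ g : Matrix.symplecticGroup (Fin (0 + 2)) F,
    ∀ H : Subgroup (Matrix.symplecticGroup (Fin (0 + 2)) F), uE F 0 ∈ H → g * uE F 0 * g⁻¹ ∈ H →
      c - c * c ∈ gam H := by
  set C : GL (Fin (0 + 2)) F := tr (z01 (N := 0)) c
  set J := jg F (0 + 2)
  let m : Matrix.symplecticGroup (Fin (0 + 2)) F := tv (topv (bv (lst 0))) c
  let Z : Matrix.symplecticGroup (Fin (0 + 2)) F := tv (topv (bv (lst 0))) 1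
  refine ⟨levi C * m, fun H hu hg => ?_⟩
  have hm : UT m (sq c (bv (lst 0))) := UT_tv _ _
  have hZ : UT Z (sq 1 (bv (lst 0))) := UT_tv _ _
  have hu' : uE F 0 = levi J * Z := by simp only [uE, Z, topv_bv]; rfl
  have hCJ : C * J = J * C := gl_ext fun v => by
    have e : ∀ v, gv J v = jm F (0 + 2) *ᵥ v := fun _ => rfl
    rw [gv_mul, gv_mul, e, e, jm_two, gv_tr, gv_tr]
    funext i
    fin_cases i <;> simp [Matrix.mulVec, dotProduct] <;> ring
  have hUT := (UT.conj_levi C (hm.mul (UT.conj_uE hm).inv)).mul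
    (UT.conj_levi J ((UT.conj_levi C hZ).mul hZ.inv))
  have hC : levi C * levi J = levi J * levi C := by rw [← map_mul, hCJ, map_mul]
  have hh : InH H _ := ⟨_, ?_, hUT⟩
  · rw [mem_gam]
    convert hh using 1
    have e1 : (bv (lst 0) : Fin (0 + 2) → F) = ![0, 1] := by
      funext i; fin_cases i <;> simp [bv, Pi.single_apply, Fin.ext_iff]
    have e0 : ev1 F 0 0 = ![1, 0] := by
      funext i; fin_cases i <;> simp [ev1]
    have eC : C.1 = !![1, c; 0, 1] := by
      refine Matrix.ext_of_mulVec_single fun j => ?_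
      show gv C _ = _
      rw [gv_tr]
      funext i; fin_cases i <;> fin_cases j <;> simp [Matrix.mulVec, dotProduct]
    have es : ∀ (d : F) (x : Fin (0 + 2) → F),
        sq d x = !![d * (x 0 * x 0), d * (x 0 * x 1); d * (x 1 * x 0), d * (x 1 * x 1)] := fun d x => by
      ext i j; fin_cases i <;> fin_cases j <;> simp [sq, vecMulVec_apply]
    rw [es, es, es, e0, e1, eC, show (jg F (0 + 2)).1 = jm F (0 + 2) from rfl, jm_two]
    ext i j
    fin_cases i <;> fin_cases j <;>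
      simp [Matrix.mul_apply, Fin.sum_univ_two, Matrix.vecMul, dotProduct, Matrix.vecHead, Matrix.vecTail] <;> ring
  · have := mul_mem hg (inv_mem hu)
    convert this using 1
    rw [hu']
    calc levi C * (m * (levi J * Z * m * (levi J * Z)⁻¹)⁻¹) * (levi C)⁻¹ *
          (levi J * (levi C * Z * (levi C)⁻¹ * Z⁻¹) * (levi J)⁻¹)
        = levi C * m * (levi J * Z) * m⁻¹ * Z⁻¹ * (levi C * levi J)⁻¹ * (levi J * levi C) * Z * (levi C)⁻¹ *
            Z⁻¹ * (levi J)⁻¹ := by group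
      _ = _ := by rw [hC]; group

section Small

local notation "Sp2" => Matrix.symplecticGroup (Fin (0 + 2)) F
local notation "e0" => (el (0 : Fin (0 + 2)) : Fin (0 + 2) ⊕ Fin (0 + 2) → F)
local notation "e1" => (el (1 : Fin (0 + 2)) : Fin (0 + 2) ⊕ Fin (0 + 2) → F)
local notation "f0" => (fr (0 : Fin (0 + 2)) : Fin (0 + 2) ⊕ Fin (0 + 2) → F)
local notation "f1" => (fr (1 : Fin (0 + 2)) : Fin (0 + 2) ⊕ Fin (0 + 2) → F)

/-- The third conjugating element in dimension four, characteristic two. -/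
noncomputable def hS (θ : Fˣ) : Matrix.symplecticGroup (Fin (0 + 2)) F :=
  flp 0 * levi (dg 0 θ * pm (Equiv.swap 0 1))

theorem uE_small : (∀ x : Fin (0 + 2) → F, gv (jg F (0 + 2)) x = ![x 0 + x 1, x 1]) ∧
    (∀ x : Fin (0 + 2) → F, gv (jg F (0 + 2))⁻¹ x = ![x 0 - x 1, x 1]) ∧
    (uE F 0).1 *ᵥ f0 = f0 - f1 ∧ (uE F 0).1 *ᵥ e1 = e1 + e0 ∧ (uE F 0).1 *ᵥ e0 = e0 ∧
    (uE F 0).1 *ᵥ f1 = f1 + (e1 + e0) := by
  have hJ : ∀ x : Fin (0 + 2) → F, gv (jg F (0 + 2)) x = ![x 0 + x 1, x 1] := by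
    intro x
    show jm F (0 + 2) *ᵥ x = _
    rw [jm_two]
    funext i; fin_cases i <;> simp [Matrix.mulVec, dotProduct]
  have hJi : ∀ x : Fin (0 + 2) → F, gv (jg F (0 + 2))⁻¹ x = ![x 0 - x 1, x 1] := by
    intro x
    have e : gv (jg F (0 + 2)) ![x 0 - x 1, x 1] = x := by
      rw [hJ]; funext i; fin_cases i <;> simp
    conv_lhs => rw [← e, gv_inv]
  have hl : lst 0 = (1 : Fin (0 + 2)) := rfl
  refine ⟨hJ, hJi, ?_, ?_, ?_, ?_⟩ <;>
  · rw [uE, mul_apply, tv_apply, hl]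
    simp only [B_el_el, B_fr_el, Matrix.mulVec_add, Matrix.mulVec_smul, levi_el, levi_fr, hJ, hJi]
    funext p
    rcases p with p | p <;> fin_cases p <;> simp [topv, el, fr, bv, Pi.single_apply]

theorem hS_apply (θ : Fˣ) :
    (hS θ : Sp2).1 *ᵥ e0 = e1 ∧ (hS θ : Sp2).1 *ᵥ e1 = (-(θ : F)) • f0 ∧
    (hS θ : Sp2).1 *ᵥ f0 = f1 ∧ (hS θ : Sp2).1 *ᵥ f1 = ((θ⁻¹ : Fˣ) : F) • e0 := by
  refine ⟨?_, ?_, ?_, ?_⟩ <;>
    simp only [hS, map_mul, mul_apply, levi_perm_el, levi_perm_fr, Equiv.swap_apply_left, Equiv.swap_apply_right,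
      dg_el, dg_fr, Matrix.mulVec_smul, flip_el, flip_fr, z01.symm, if_false, if_true, one_smul, smul_neg, neg_smul]

theorem small_facts (θ : Fˣ) (h2 : (2 : F) = 0) :
    let v : Sp2 := hS θ * uE F 0 * (hS θ)⁻¹
    v.1 *ᵥ e0 = e0 + (θ : F) • e1 + ((θ : F) * θ) • f0 ∧ v.1 *ᵥ e1 = e1 ∧
      (v * v).1 *ᵥ e0 = e0 + (θ : F) • e1 := by
  intro v
  obtain ⟨hh0, hh1, hh2, hh3⟩ := hS_apply (F := F) θ
  obtain ⟨-, -, huf0, hue1, hue0, huf1⟩ := uE_small (F := F)
  have hneg : ∀ x : Fin (0 + 2) ⊕ Fin (0 + 2) → F, -x = x := fun x => by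
    funext p
    show -x p = x p
    linear_combination (-(x p)) * h2
  have back : ∀ x y, (hS θ : Sp2).1 *ᵥ x = y → v.1 *ᵥ y = (hS θ : Sp2).1 *ᵥ ((uE F 0).1 *ᵥ x) := by
    intro x y e
    rw [← e]
    simp only [v, mul_apply, inv_apply]
  have hve1 : v.1 *ᵥ e1 = e1 := by rw [back _ _ hh0, hue0, hh0]
  have hθ : (θ : F) * ((θ⁻¹ : Fˣ) : F) = 1 := by rw [← Units.val_mul, mul_inv_cancel, Units.val_one]
  have pre0 : (hS θ : Sp2).1 *ᵥ ((θ : F) • f1) = e0 := by
    rw [Matrix.mulVec_smul, hh3, smul_smul, hθ, one_smul]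
  have hve0 : v.1 *ᵥ e0 = e0 + (θ : F) • e1 + ((θ : F) * θ) • f0 := by
    rw [back _ _ pre0, Matrix.mulVec_smul, huf1, Matrix.mulVec_smul, Matrix.mulVec_add, Matrix.mulVec_add,
      hh1, hh3, hh0, neg_smul, hneg, smul_add, smul_add, smul_smul, smul_smul, hθ, one_smul]
    abel
  have pre2 : (hS θ : Sp2).1 *ᵥ (((θ⁻¹ : Fˣ) : F) • e1) = f0 := by
    rw [Matrix.mulVec_smul, hh1, neg_smul, hneg, smul_smul, mul_comm, hθ, one_smul]
  have hvf0 : v.1 *ᵥ f0 = f0 + ((θ⁻¹ : Fˣ) : F) • e1 := by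
    rw [back _ _ pre2, Matrix.mulVec_smul, hue1, Matrix.mulVec_smul, Matrix.mulVec_add, hh0, hh1, neg_smul, hneg,
      smul_add, smul_smul, mul_comm, hθ, one_smul]
  refine ⟨hve0, hve1, ?_⟩
  rw [mul_apply, hve0, Matrix.mulVec_add, Matrix.mulVec_add, Matrix.mulVec_smul, Matrix.mulVec_smul, hve0, hve1,
    hvf0, smul_add, smul_smul]
  funext p
  simp only [Pi.add_apply, Pi.smul_apply, smul_eq_mul]
  linear_combination ((θ : F) * e1 p + (θ : F) * θ * f0 p) * h2 + ((θ : F) * e1 p) * hθ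

/-- Generation in dimension four, characteristic two. -/
theorem eq_top_small (θ : Fˣ) (h2 : (2 : F) = 0)
    (hgen : ∀ a : F, ∃ P : Polynomial ℤ, Polynomial.aeval ((θ : F) ^ 2) P = a)
    (hsq : ∀ a : F, ∃ b : F, b * b = a) {H : Subgroup (Matrix.symplecticGroup (Fin (0 + 2)) F)}
    (hu : uE F 0 ∈ H) (hv : hS θ * uE F 0 * (hS θ)⁻¹ ∈ H) {a0 : F} (h0 : a0 ∈ gam H) (hne : a0 ≠ 0) : H = ⊤ := by
  obtain ⟨hve0, hve1, hw0⟩ := small_facts θ h2
  obtain ⟨hJ, -, huf0, -, -, -⟩ := uE_small (F := F)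
  set v : Sp2 := hS θ * uE F 0 * (hS θ)⁻¹
  have hθ0 : (θ : F) ≠ 0 := θ.ne_zero
  have hvv := mul_mem hv hv
  have eev0 : ev1 F 0 0 = bv (0 : Fin (0 + 2)) := ev1_eq (0 : Fin (0 + 2))
  have eev1 : ev1 F 0 1 = bv (1 : Fin (0 + 2)) := ev1_eq (1 : Fin (0 + 2))
  have hw1 : (v * v).1 *ᵥ e1 = e1 := by rw [mul_apply, hve1, hve1]
  -- multiples of the mixed element
  let K : AddSubgroup F :=
    { carrier := {c | InH H (sq c (bv 0 + bv 1) - sq c (bv 1))}
      zero_mem' := by simp [sq, InH.zero]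
      add_mem' := fun {a b} ha hb => by
        have := InH.add ha hb
        rw [Set.mem_setOf_eq]
        convert this using 1
        simp only [sq, add_smul]; abel
      neg_mem' := fun {a} ha => by
        have := InH.neg ha
        rw [Set.mem_setOf_eq]
        convert this using 1
        simp only [sq, neg_smul]; abel }
  have hK1 : (1 : F) ∈ K := by
    have hm := UT_tv (bv (lst 0)) (1 : F)
    have hZ : tv (topv (bv (lst 0))) (1 : F) = tv e1 1 := by rw [topv_bv]; rfl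
    have hmem : uE F 0 * uE F 0 ∈ H := mul_mem hu hu
    have hJJ : levi (jg F (0 + 2)) * levi (jg F (0 + 2)) = (1 : Sp2) := by
      rw [← map_mul]
      convert map_one (levi : GL (Fin (0 + 2)) F →* Sp2) using 2
      refine gl_ext fun x => ?_
      rw [gv_mul, gv_one, hJ, hJ]
      funext i
      fin_cases i
      · simp; linear_combination (x 1) * h2
      · simp
    have hu2 : uE F 0 * uE F 0 = (uE F 0 * tv (topv (bv (lst 0))) 1 * (uE F 0)⁻¹) * tv (topv (bv (lst 0))) 1 := by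
      have e : uE F 0 = levi (jg F (0 + 2)) * tv (topv (bv (lst 0))) 1 := by rw [hZ]; rfl
      rw [e]
      calc levi (jg F (0 + 2)) * tv (topv (bv (lst 0))) 1 * (levi (jg F (0 + 2)) * tv (topv (bv (lst 0))) 1)
          = levi (jg F (0 + 2)) * tv (topv (bv (lst 0))) 1 * (levi (jg F (0 + 2)))⁻¹ *
              (levi (jg F (0 + 2)) * levi (jg F (0 + 2))) * tv (topv (bv (lst 0))) 1 := by group
        _ = _ := by rw [hJJ]; group
    show InH H _
    refine ⟨_, hu2 ▸ hmem, ?_⟩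
    convert (UT.conj_uE hm).mul hm using 1
    rw [Matrix.mul_smul, Matrix.smul_mul, mul_vecMulVec, vecMulVec_mul, vecMul_transpose]
    show _ = (1 : F) • vecMulVec (gv (jg F (0 + 2)) (bv (lst 0))) (gv (jg F (0 + 2)) (bv (lst 0))) + _
    rw [hJ]
    ext i j
    fin_cases i <;> fin_cases j <;> simp [sq, vecMulVec_apply, Pi.single_apply, Fin.ext_iff]
    all_goals linear_combination -(1 : F) * h2
  have hK : K = ⊤ := by
    refine closed_all K ((θ : F) ^ 2) hgen hK1 one_ne_zero fun c hc => ?_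
    have hc' : InH H (sq c (bv 0 + bv 1) - sq c (bv 1)) := hc
    obtain ⟨k, hk, hk'⟩ := hc'
    have hk2 : k = tv (topv (bv 0 + bv 1)) c * (tv (topv (bv 1)) c)⁻¹ := by
      refine UT.eq hk' ?_
      convert (UT_tv _ _).mul (UT_tv _ _).inv using 1
      exact sub_eq_add_neg _ _
    have hk3 : tv (topv (bv 0 + ((θ : F) + 1) • bv 1)) c * (tv (topv (bv 1)) c)⁻¹ ∈ H := by
      have := mul_mem (mul_mem hvv hk) (inv_mem hvv)
      rw [hk2, ← conj_mul, ← conj_inv, conj_tv, conj_tv, topv_bv, topv_add, topv_bv, topv_bv, Matrix.mulVec_add,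
        hw0, hw1] at this
      rw [topv_add, topv_smul, topv_bv, topv_bv, add_smul, one_smul, ← add_assoc]
      exact this
    have h3 : InH H _ := ⟨_, hk3, (UT_tv _ _).mul (UT_tv _ _).inv⟩
    have h4 := (h3.sub (hc : InH H _)).dl hu
    show InH H _
    convert h4 using 1
    show _ = dl (sq c _ + -sq c _ - (sq c _ - sq c _))
    rw [← sub_eq_add_neg, dl_sub, dl_sub, dl_sub, dl_sq, dl_sq, dl_sq, hJ, hJ, hJ]
    ext i j
    fin_cases i <;> fin_cases j <;>
      simp [sq, vecMulVec_apply, Pi.single_apply, Fin.ext_iff]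
    all_goals first
      | linear_combination -(2 * c * (θ : F)) * h2
      | linear_combination -(c * (θ : F)) * h2
  -- the first root group
  set μ : F := (θ : F) * θ
  set y := v.1 *ᵥ (e0 + e1) with hy
  have hye : y = e0 + ((θ : F) + 1) • e1 + μ • f0 := by
    rw [hy, Matrix.mulVec_add, hve0, hve1, add_smul, one_smul]; abel
  have Bey : B e0 y = -μ := by
    simp [hye, B_add_right, B_smul_right, B_el_el, B_el_fr]
  have Bye : B y e1 = 0 := by
    simp [hye, B_add_left, B_smul_left, B_el_el, B_fr_el]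
  let Fc : F → Sp2 := fun c => tv y c * (tv e1 c)⁻¹
  have hFc : ∀ c, Fc c ∈ H := by
    intro c
    have hc : c ∈ K := by rw [hK]; trivial
    have hc' : InH H (sq c (bv 0 + bv 1) - sq c (bv 1)) := hc
    obtain ⟨k, hk, hk'⟩ := hc'
    have hk2 : k = tv (topv (bv 0 + bv 1)) c * (tv (topv (bv 1)) c)⁻¹ := by
      refine UT.eq hk' ?_
      convert (UT_tv _ _).mul (UT_tv _ _).inv using 1
      exact sub_eq_add_neg _ _
    have := mul_mem (mul_mem hv hk) (inv_mem hv)
    rwa [hk2, ← conj_mul, ← conj_inv, conj_tv, conj_tv, topv_add, topv_bv, topv_bv, hve1] at this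
  have tinv : ∀ c x, B x e1 = 0 → ((tv e1 c : Sp2)⁻¹).1 *ᵥ x = x := fun c x hx => by
    conv_lhs => rw [show x = (tv e1 c : Sp2).1 *ᵥ x by rw [tv_apply, hx, mul_zero, zero_smul, add_zero]]
    exact inv_apply _ _
  have hFe : ∀ c, (Fc c).1 *ᵥ e0 = e0 + (-(c * μ)) • y := fun c => by
    rw [mul_apply, tinv _ _ (B_el_el _ _), tv_apply, Bey, mul_neg]
  have hFy : ∀ c, (Fc c).1 *ᵥ y = y := fun c => by
    rw [mul_apply, tinv _ _ Bye, tv_apply, B_self, mul_zero, zero_smul, add_zero]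
  have hμ : μ ≠ 0 := mul_ne_zero hθ0 hθ0
  have hX : tv e0 a0 ∈ H := by
    have := inH_sq_iff.1 (mem_gam.1 h0)
    rwa [eev0, topv_bv] at this
  have hscale : ∀ α : F, α ≠ 0 → tv e0 (α ^ 2 * a0) ∈ H := by
    intro α hα
    set cc := (1 - α) / (a0 * μ)
    have hz : tv (e0 + cc • y) a0 ∈ H := by
      refine tv_move (hFc (-(cc / μ))) hX ?_
      rw [hFe]; congr 2; field_simp
    have e1' : (tv (e0 + cc • y) a0).1 *ᵥ e0 = α • e0 + (a0 * (cc * -μ) * cc) • y := by
      rw [tv_apply, B_add_right, B_smul_right, B_self, Bey, zero_add (cc * -μ), smul_add, smul_smul, ← add_assoc]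
      congr 1
      rw [show e0 + (a0 * (cc * -μ)) • e0 = (1 + a0 * (cc * -μ)) • e0 by rw [add_smul, one_smul]]
      congr 1
      have : cc * (a0 * μ) = 1 - α := div_mul_cancel₀ _ (mul_ne_zero hne hμ)
      linear_combination -this
    have hg := mul_mem (hFc (a0 * (cc * -μ) * cc / (α * μ))) hz
    have e2 : (Fc (a0 * (cc * -μ) * cc / (α * μ)) * tv (e0 + cc • y) a0).1 *ᵥ e0 = α • e0 := by
      rw [mul_apply, e1', Matrix.mulVec_add, Matrix.mulVec_smul, Matrix.mulVec_smul, hFe, hFy, smul_add,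
        smul_smul, add_assoc, ← add_smul]
      have hz0 : α * -(a0 * (cc * -μ) * cc / (α * μ) * μ) + a0 * (cc * -μ) * cc = 0 := by field_simp; ring
      rw [hz0, zero_smul, add_zero]
    have := tv_move hg hX e2
    rwa [tv_smul] at this
  have hgam : gam H = ⊤ := by
    rw [eq_top_iff]
    intro c _
    by_cases hc : c = 0
    · rw [hc]; exact zero_mem _
    obtain ⟨α, hα⟩ := hsq (c / a0)
    have hα0 : α ≠ 0 := fun e => div_ne_zero hc hne (by rw [← hα, e, zero_mul])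
    refine mem_gam.2 (inH_sq_iff.2 ?_)
    rw [eev0, topv_bv]
    have := hscale α hα0
    rwa [pow_two, hα, div_mul_cancel₀ _ hne] at this
  have hK0 := known_zero hgam
  have he0 : ∀ c : F, tv e0 c ∈ H := fun c => by
    have := inH_sq_iff.1 (hK0 _ (Low.ev le_rfl) c)
    rwa [eev0, topv_bv] at this
  have hKn : Known H (0 + 1) := by
    refine known_succ hu (by norm_num) hK0 hθ0 fun c => inH_sq_iff.2 (tv_move hvv (he0 c) ?_)
    rw [hw0, eev0, eev1, topv_add, topv_smul, topv_bv, topv_bv]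
  have hf0 : TI H f0 := by
    have h1 : TI H e0 := he0
    have h2' := h1.move hv
    rw [hve0] at h2'
    refine TI_kill (a := bv (0 : Fin (0 + 2)) + (θ : F) • bv 1) hKn hμ ?_
    convert h2' using 2
    funext p
    rcases p with p | p <;> simp [el, fr, μ, Pi.single_apply]
  have hf1 : TI H f1 := by
    have h1 := (hf0.move hu).move (flip_mem hKn hf0)
    rw [huf0, sub_eq_add_neg, ← neg_one_smul F f1, Matrix.mulVec_add, Matrix.mulVec_smul, flip_fr, if_pos rfl,
      flip_fr, if_neg z01.symm] at h1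
    refine TI_kill (a := bv (0 : Fin (0 + 2))) hKn (neg_ne_zero.2 (one_ne_zero (α := F))) ?_
    convert h1 using 2
    funext p
    rcases p with p | p <;> simp [el, fr, Pi.single_apply]
  refine eq_top_of_known hKn fun k => ?_
  fin_cases k
  · exact hf0
  · exact hf1

end Small

/-- Three conjugates of a regular unipotent element generate. -/
theorem three_generate [Fintype F] (N : ℕ) (h22 : ¬ (N = 0 ∧ Fintype.card F = 2)) :
    ∃ u g h : Matrix.symplecticGroup (Fin (N + 2)) F, (IsNilpotent (u.1 - 1) ∧ (u.1 - 1) ^ (2 * (N + 2) - 1) ≠ 0) ∧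
      Subgroup.closure ({u, g * u * g⁻¹, h * u * h⁻¹} : Set (Matrix.symplecticGroup (Fin (N + 2)) F)) = ⊤ := by
  classical
  obtain ⟨D⟩ := CfsgLib.SLShort.exists_fdata F
  set θ : Fˣ := Units.mk0 D.ω D.hω
  have hgen : ∀ a : F, ∃ P : Polynomial ℤ, Polynomial.aeval ((θ : F) ^ 2) P = a := D.gen2
  obtain ⟨g, a0, hne, hg⟩ : ∃ (g : Matrix.symplecticGroup (Fin (N + 2)) F) (a0 : F), a0 ≠ 0 ∧
      ∀ H : Subgroup (Matrix.symplecticGroup (Fin (N + 2)) F), uE F N ∈ H → g * uE F N * g⁻¹ ∈ H → a0 ∈ gam H := by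
    rcases Nat.eq_zero_or_pos N with rfl | hN
    · have h3 : 3 ≤ Fintype.card F := by
        have := Fintype.one_lt_card (α := F)
        omega
      obtain ⟨c, hc⟩ : ∃ c : F, c - c * c ≠ 0 := by
        by_contra h
        push Not at h
        have hsub : (Finset.univ : Finset F) ⊆ {0, 1} := fun c _ => by
          have h1 : c * (1 - c) = 0 := by linear_combination h c
          rcases mul_eq_zero.1 h1 with h1 | h1
          · simp [h1]
          · simp [(sub_eq_zero.1 h1).symm]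
        have := (Finset.card_le_card hsub).trans Finset.card_le_two
        rw [Finset.card_univ] at this
        omega
      obtain ⟨g, hg⟩ := exists_second_small c
      exact ⟨g, _, hc, hg⟩
    · obtain ⟨g, hg⟩ := exists_second_big (F := F) hN
      exact ⟨g, 1, one_ne_zero, hg⟩
  by_cases hspecial : N = 0 ∧ (2 : F) = 0
  · obtain ⟨rfl, h2⟩ := hspecial
    refine ⟨uE F 0, g, hS θ, regular, ?_⟩
    set H := Subgroup.closure ({uE F 0, g * uE F 0 * g⁻¹, hS θ * uE F 0 * (hS θ)⁻¹} :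
      Set (Matrix.symplecticGroup (Fin (0 + 2)) F))
    have hu : uE F 0 ∈ H := Subgroup.subset_closure (Or.inl rfl)
    refine eq_top_small θ h2 hgen (fun a => ?_) hu (Subgroup.subset_closure (Or.inr (Or.inr rfl)))
      (hg H hu (Subgroup.subset_closure (Or.inr (Or.inl rfl)))) hne
    haveI : CharP F 2 := by
      obtain ⟨p, hp⟩ := CharP.exists F
      haveI := hp
      have h1 : p ∣ 2 := (CharP.cast_eq_zero_iff F p 2).1 (by exact_mod_cast h2)
      rcases Nat.prime_two.eq_one_or_self_of_dvd p h1 with h | h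
      · exact absurd h (CharP.char_ne_one F p)
      · exact h ▸ hp
    obtain ⟨b, hb⟩ := isSquare_of_charTwo' a
    exact ⟨b, hb.symm⟩
  · refine ⟨uE F N, g, hE θ, regular, ?_⟩
    set H := Subgroup.closure ({uE F N, g * uE F N * g⁻¹, hE θ * uE F N * (hE θ)⁻¹} :
      Set (Matrix.symplecticGroup (Fin (N + 2)) F))
    have hu : uE F N ∈ H := Subgroup.subset_closure (Or.inl rfl)
    have hv : (vE θ : Matrix.symplecticGroup (Fin (N + 2)) F) ∈ H := Subgroup.subset_closure (Or.inr (Or.inr rfl))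
    have h0 := hg H hu (Subgroup.subset_closure (Or.inr (Or.inl rfl)))
    refine eq_top_main hu θ hv ?_
    by_cases h2 : (2 : F) = 0
    · exact gam_top_two (Nat.pos_of_ne_zero fun e => hspecial ⟨e, h2⟩) hu θ hv hgen h2 h0 hne
    · exact gam_top_odd hu θ hv hgen h2 h0 hne

end CfsgLib.SympReg
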