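import Cfsg.Agent.Lib.SympReg.Basic

/-!
# Growing the unipotent radical inside a subgroup
-/

namespace CfsgLib.SympReg

open Matrix hiding mul_apply one_apply
open CfsgLib.SympGen
open CfsgLib.SympTransvection (tv)
open CfsgLib.TwoGenCl.Symp
open CfsgLib.SpShort

variable {F : Type*} [Field F] {N : ℕ}

local notation "Vec" => (Fin (N + 2) ⊕ Fin (N + 2) → F)
local notation "V" => (Fin (N + 2) → F)
local notation "flp" => CfsgLib.TwoGenCl.Symp.flip
local notation "SpN" => Matrix.symplecticGroup (Fin (N + 2)) F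

variable {H : Subgroup (Matrix.symplecticGroup (Fin (N + 2)) F)}

/-- Support in the first `i + 1` positions. -/
def Low (i : ℕ) (x : V) : Prop := ∀ q : Fin (N + 2), i < q.val → x q = 0

/-- All transvections centred in the first positions. -/
def Known (H : Subgroup SpN) (i : ℕ) : Prop := ∀ x : V, Low i x → ∀ c : F, InH H (sq c x)

theorem Low.add {i : ℕ} {x y : V} (hx : Low i x) (hy : Low i y) : Low i (x + y) := fun q hq => by
  rw [Pi.add_apply, hx q hq, hy q hq, add_zero]

theorem Low.smul {i : ℕ} {x : V} (hx : Low i x) (a : F) : Low i (a • x) := fun q hq => by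
  rw [Pi.smul_apply, hx q hq, smul_zero]

theorem Low.ev {i j : ℕ} (h : j ≤ i) : Low i (ev1 F N j) := fun q hq => by
  simp only [ev1]; rw [if_neg (by omega)]

theorem Known.sy {i : ℕ} (hK : Known H i) {x y : V} (hx : Low i x) (hy : Low i y) (c : F) :
    InH H (SympReg.sy c x y) := by
  have h := (hK (x + y) (hx.add hy) c).sub ((hK x hx c).add (hK y hy c))
  rwa [sq_add, add_sub_cancel_left] at h

theorem known_succ (hu : uE F N ∈ H) {i : ℕ} (hi : i + 1 < N + 2) (hK : Known H i) {δ : F} (hδ : δ ≠ 0)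
    (hw : ∀ c : F, InH H (sq c (ev1 F N i + δ • ev1 F N (i + 1)))) : Known H (i + 1) := by
  set e' := ev1 F N (i + 1) with he'
  let X : V → Prop := fun x => Low i x ∧ ∀ c : F, InH H (sy c x e')
  have hJ' : gv (jg F (N + 2)) e' = e' + ev1 F N i := gv_jg_ev1_succ i hi
  have Xsmul : ∀ {x : V} (a : F), X x → X (a • x) := fun {x} a hx =>
    ⟨hx.1.smul a, fun c => by rw [sy_smul_left]; exact hx.2 _⟩
  have Xsub : ∀ {x y : V}, X x → X y → X (x - y) := fun {x y} hx hy =>
    ⟨fun q hq => by rw [Pi.sub_apply, hx.1 q hq, hy.1 q hq, sub_zero], fun c => by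
      rw [show sy c (x - y) e' = sy c x e' - sy c y e' from
        eq_sub_of_add_eq (by rw [← sy_add_left, sub_add_cancel])]
      exact (hx.2 c).sub (hy.2 c)⟩
  have lowJ : ∀ j, j ≤ i → Low i (gv (jg F (N + 2)) (ev1 F N j)) := by
    intro j hj
    rcases j with _ | j
    · rw [gv_jg_ev1_zero]; exact Low.ev hj
    · rw [gv_jg_ev1_succ j (by omega)]; exact (Low.ev hj).add (Low.ev (by omega))
  -- shifting a member of `X`
  have shift : ∀ {x x' : V}, Low i (gv (jg F (N + 2)) x) → gv (jg F (N + 2)) x = x + x' → X x → X x' := by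
    intro x x' hl hxx hx
    have hx' : Low i x' := fun q hq => by
      have := congrFun hxx q
      rwa [Pi.add_apply, hl q hq, hx.1 q hq, zero_add, eq_comm] at this
    refine ⟨hx', fun c => ?_⟩
    have h := ((hx.2 c).dl hu).sub (hK.sy hl (Low.ev le_rfl) c)
    rw [dl_sy, hJ'] at h
    have e : sy c (gv (jg F (N + 2)) x) (e' + ev1 F N i) - sy c x e' - sy c (gv (jg F (N + 2)) x) (ev1 F N i) =
        sy c x' e' := by
      rw [sy_comm c _ (e' + _), sy_add_left, sy_comm c e', sy_comm c (ev1 F N i), hxx, sy_add_left c x x' e']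
      abel
    rwa [e] at h
  -- the first member
  have first : ∀ c : F, InH H (sy (c * δ) (ev1 F N i) e' + sq (c * δ * δ) e') := by
    intro c
    have h := (hw c).sub (hK (ev1 F N i) (Low.ev le_rfl) c)
    rwa [sq_add, sy_smul_right, sq_smul, add_assoc, add_sub_cancel_left, add_comm] at h
  have hfirst : ∀ x', gv (jg F (N + 2)) (ev1 F N i) = ev1 F N i + x' → X (x' + δ • ev1 F N i) := by
    intro x' hxx
    have hl := lowJ i le_rfl
    have hx' : Low i x' := fun q hq => by
      have := congrFun hxx q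
      rwa [Pi.add_apply, hl q hq, Low.ev (le_refl i) q hq, zero_add, eq_comm] at this
    refine ⟨hx'.add ((Low.ev le_rfl).smul δ), fun c => ?_⟩
    have h := (first (c / δ)).dl hu
    rw [div_mul_cancel₀ _ hδ, dl_add, dl_sy, dl_sq, hJ', sq_add] at h
    have h2 := (h.sub (hK.sy hl (Low.ev le_rfl) c)).sub (hK (ev1 F N i) (Low.ev le_rfl) (c * δ))
    have e : sy c (gv (jg F (N + 2)) (ev1 F N i)) (e' + ev1 F N i) - sy c (ev1 F N i) e' +
        (sq (c * δ) e' + sq (c * δ) (ev1 F N i) + sy (c * δ) e' (ev1 F N i) - sq (c * δ) e') -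
        sy c (gv (jg F (N + 2)) (ev1 F N i)) (ev1 F N i) - sq (c * δ) (ev1 F N i) =
        sy c (x' + δ • ev1 F N i) e' := by
      rw [sy_comm c _ (e' + _), sy_add_left, sy_comm c e', sy_comm c (ev1 F N i) (gv _ _), hxx,
        sy_add_left c (ev1 F N i) x' e', sy_add_left c x' _ e', sy_smul_left, sy_comm (c * δ) e']
      abel
    rwa [e] at h2
  have pairX : ∀ k j, j + 1 + k = i → X (ev1 F N j + δ • ev1 F N (j + 1)) := by
    intro k
    induction k with
    | zero =>
      intro j hj
      obtain rfl : j + 1 = i := by omega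
      exact hfirst _ (gv_jg_ev1_succ j (by omega))
    | succ k ih =>
      intro j hj
      refine shift ?_ ?_ (ih (j + 1) (by omega))
      · rw [gv_add, gv_smul]; exact (lowJ _ (by omega)).add ((lowJ _ (by omega)).smul δ)
      · rw [gv_add, gv_smul, gv_jg_ev1_succ j (by omega), gv_jg_ev1_succ (j + 1) (by omega), smul_add]
        abel
  have h0X : X (ev1 F N 0) := by
    have key : X (δ • ev1 F N 0) := by
      rcases Nat.eq_zero_or_pos i with h | h
      · subst h
        have h2 := hfirst 0 (by rw [gv_jg_ev1_zero, add_zero])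
        rwa [zero_add] at h2
      · refine shift ?_ ?_ (pairX (i - 1) 0 (by omega))
        · rw [gv_add, gv_smul]; exact (lowJ _ (by omega)).add ((lowJ _ (by omega)).smul δ)
        · rw [gv_add, gv_smul, gv_jg_ev1_zero, gv_jg_ev1_succ 0 (by omega), smul_add]
          abel
    have := Xsmul δ⁻¹ key
    rwa [smul_smul, inv_mul_cancel₀ hδ, one_smul] at this
  have allX : ∀ j, j ≤ i → X (ev1 F N j) := by
    intro j
    induction j with
    | zero => exact fun _ => h0X
    | succ j ih =>
      intro hj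
      have := Xsmul δ⁻¹ (Xsub (pairX (i - (j + 1)) j (by omega)) (ih (by omega)))
      rwa [add_sub_cancel_left, smul_smul, inv_mul_cancel₀ hδ, one_smul] at this
  have lowX : ∀ x, Low i x → X x := by
    intro x hx
    have e : x = ∑ q : Fin (N + 2), x q • ev1 F N q.val := by
      funext p
      rw [Finset.sum_apply, Finset.sum_eq_single p]
      · simp [ev1]
      · intro q _ hq; simp [ev1, Fin.val_eq_val, Ne.symm hq]
      · simp
    rw [e]
    refine Finset.sum_induction _ X (fun a b ha hb => ⟨ha.1.add hb.1, fun c => by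
      rw [sy_add_left]; exact (ha.2 c).add (hb.2 c)⟩) ⟨fun q _ => rfl, fun c => by
      simp [SympReg.sy, InH.zero]⟩ fun q _ => ?_
    by_cases hq : q.val ≤ i
    · exact Xsmul _ (allX _ hq)
    · rw [hx q (by omega)]
      exact ⟨fun _ _ => by simp, fun c => by simp [SympReg.sy, InH.zero]⟩
  have hE : ∀ c, InH H (sq c e') := by
    intro c
    have h := (first (c / (δ * δ))).sub ((allX i le_rfl).2 (c / (δ * δ) * δ))
    rwa [add_sub_cancel_left, mul_assoc, div_mul_cancel₀ _ (mul_ne_zero hδ hδ)] at h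
  intro x hx c
  let q' : Fin (N + 2) := ⟨i + 1, hi⟩
  have e : x = (x - x q' • e') + x q' • e' := by abel
  have hy : Low i (x - x q' • e') := fun q hq => by
    rw [Pi.sub_apply, Pi.smul_apply, he']
    by_cases h : q.val = i + 1
    · rw [show q = q' from Fin.ext h]; simp [ev1, q']
    · rw [hx q (by omega)]; simp [ev1, h]
  rw [e, sq_add, sq_smul, sy_smul_right]
  exact ((hK _ hy c).add (hE _)).add ((lowX _ hy).2 _)

/-- Everything in the radical. -/
theorem all_sym (hK : Known H (N + 1)) {S : Matrix (Fin (N + 2)) (Fin (N + 2)) F} (hS : S.transpose = S) :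
    InH H S :=
  SymData.sym_induction (InH H) InH.zero (fun _ _ h1 h2 => h1.add h2)
    (fun v u => hK v (fun q hq => absurd q.isLt (by omega)) u) hS

theorem TI_kill (hK : Known H (N + 1)) {a : V} {t : F} {k : Fin (N + 2)} (ht : t ≠ 0)
    (h : TI H (Sum.elim a (t • bv k) : Vec)) : TI H (fr k : Vec) := by
  set S : Matrix (Fin (N + 2)) (Fin (N + 2)) F := (-t⁻¹) • (sy 1 a (bv k) - sq (a k) (bv k)) with hS
  have hsym : S.transpose = S := by
    ext i j
    simp only [hS, Matrix.transpose_apply, Matrix.smul_apply, Matrix.sub_apply, SympReg.sy, SympReg.sq,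
      Matrix.add_apply, vecMulVec_apply, smul_eq_mul]
    ring
  obtain ⟨g, hg, hg'⟩ := all_sym hK hsym
  have e : g.1 *ᵥ (Sum.elim a (t • bv k) : Vec) = t • fr k := by
    rw [hg' _, Sum.elim_comp_inl, Sum.elim_comp_inr]
    funext p
    rcases p with p | p
    · simp only [Sum.elim_inl, Pi.add_apply, Pi.smul_apply, fr]
      rw [Matrix.mulVec_smul, Pi.smul_apply]
      simp only [hS, bv, sy, sq, Matrix.smul_mulVec, Matrix.sub_mulVec, Matrix.add_mulVec,
        Matrix.vecMulVec_mulVec, Pi.smul_apply, Pi.sub_apply, Pi.add_apply, smul_eq_mul, dotProduct_single]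
      simp [Pi.single_apply]
      rw [← mul_assoc, mul_inv_cancel₀ ht, one_mul, add_neg_cancel]
    · simp [fr, Pi.single_apply]
  have h2 := h.move hg
  rw [e] at h2
  exact h2.of_smul ht

theorem el_mem (hK : Known H (N + 1)) (x : V) : TI H (topv x : Vec) := fun c =>
  inH_sq_iff.1 (hK x (fun q hq => absurd q.isLt (by omega)) c)

theorem flip_mem (hK : Known H (N + 1)) {k : Fin (N + 2)} (hf : TI H (fr k : Vec)) : (flp k : SpN) ∈ H := by
  have he : TI H (el k : Vec) := by rw [← topv_bv]; exact el_mem hK _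
  exact mul_mem (mul_mem (he 1) (hf 1)) (he 1)

theorem eq_top_of_known (hK : Known H (N + 1)) (hf : ∀ k, TI H (fr k : Vec)) : H = ⊤ := by
  refine top_of_TI (all_TI (fun i => ⟨?_, hf i⟩) fun k hk => ?_)
  · have := el_mem hK (bv i)
    rwa [topv_bv] at this
  · refine ⟨el 0, el k, fun i hi => supp_el 0 i fun e => hi ?_, supp_el k, by simp [el], by simp [el], ?_⟩
    · rw [Finset.mem_singleton.mp e, mem_below]
      simpa using hk
    · have := el_mem hK (bv 0 + bv k)
      rwa [topv_add, topv_bv, topv_bv] at this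

end CfsgLib.SympReg
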