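import Cfsg.Agent.Lib.SympReg.Grow
import Cfsg.Agent.Lib.SLShort.Field

/-!
# The opposite regular element and generation
-/

namespace CfsgLib.SympReg

open Matrix hiding mul_apply one_apply
open CfsgLib.SympGen
open CfsgLib.SympTransvection (tv)
open CfsgLib.TwoGenCl.Symp
open CfsgLib.SpShort

variable {F : Type*} [Field F] [Finite F] {N : ℕ}

local notation "Vec" => (Fin (N + 2) ⊕ Fin (N + 2) → F)
local notation "V" => (Fin (N + 2) → F)
local notation "flp" => CfsgLib.TwoGenCl.Symp.flip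
local notation "SpN" => Matrix.symplecticGroup (Fin (N + 2)) F

/-- The inverse transpose. -/
def dual {n : ℕ} (A : GL (Fin n) F) : GL (Fin n) F where
  val := (A⁻¹ : GL (Fin n) F).1.transpose
  inv := A.1.transpose
  val_inv := by rw [← Matrix.transpose_mul, ← Units.val_mul, mul_inv_cancel, Units.val_one, Matrix.transpose_one]
  inv_val := by rw [← Matrix.transpose_mul, ← Units.val_mul, inv_mul_cancel, Units.val_one, Matrix.transpose_one]

/-- The form as an element. -/
def wj (F : Type*) [Field F] (N : ℕ) : Matrix.symplecticGroup (Fin (N + 2)) F :=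
  ⟨Matrix.J (Fin (N + 2)) F, SymplecticGroup.J_mem _ _⟩

theorem wj_apply (x : Vec) : (wj F N).1 *ᵥ x = Sum.elim (-(x ∘ Sum.inr)) (x ∘ Sum.inl) := by
  show Matrix.J (Fin (N + 2)) F *ᵥ x = _
  simp [Matrix.J, Matrix.fromBlocks_mulVec, Matrix.neg_mulVec]

theorem wj_el (i : Fin (N + 2)) : (wj F N).1 *ᵥ el i = (fr i : Vec) := by
  rw [wj_apply]
  funext p
  rcases p with p | p <;> simp [el, fr, Pi.single_apply]

theorem wj_levi (A : GL (Fin (N + 2)) F) : wj F N * levi A * (wj F N)⁻¹ = levi (dual A) := by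
  rw [mul_inv_eq_iff_eq_mul]
  refine ext_basis (fun i => ?_) (fun i => ?_) <;>
  · rw [mul_apply, mul_apply, levi_inl, levi_inl, wj_apply, wj_apply]
    simp only [Sum.elim_comp_inl, Sum.elim_comp_inr, Matrix.mulVec_neg]
    congr 1

/-- The torus element used for conjugation. -/
noncomputable def hE (θ : Fˣ) : SpN := levi (dg 0 θ⁻¹) * wj F N

/-- The opposite regular element. -/
noncomputable def vE (θ : Fˣ) : SpN := hE θ * uE F N * (hE θ)⁻¹

/-- Its Levi part. -/
noncomputable def lE (θ : Fˣ) : GL (Fin (N + 2)) F := dg 0 θ⁻¹ * dual (jg F (N + 2)) * (dg 0 θ⁻¹)⁻¹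

theorem vE_eq (θ : Fˣ) : (vE θ : SpN) = levi (lE θ) * tv (fr (lst N)) 1 := by
  have e : (levi (dg 0 θ⁻¹) : SpN).1 *ᵥ fr (lst N) = fr (lst N) := by
    rw [dg_fr, if_neg lst_ne_zero, one_smul]
  have e2 : levi (dg 0 θ⁻¹) * tv (fr (lst N)) (1 : F) * (levi (dg 0 θ⁻¹))⁻¹ = tv (fr (lst N)) 1 := by
    rw [conj_tv, e]
  calc (vE θ : SpN)
      = levi (dg 0 θ⁻¹) * ((wj F N * levi (jg F (N + 2)) * (wj F N)⁻¹) *
          (wj F N * tv (el (lst N)) 1 * (wj F N)⁻¹)) * (levi (dg 0 θ⁻¹))⁻¹ := by rw [vE, hE, uE]; group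
    _ = levi (dg 0 θ⁻¹) * levi (dual (jg F (N + 2))) * (levi (dg 0 θ⁻¹))⁻¹ *
          (levi (dg 0 θ⁻¹) * tv (fr (lst N)) 1 * (levi (dg 0 θ⁻¹))⁻¹) := by
        rw [wj_levi, conj_tv, wj_el]; group
    _ = _ := by rw [e2, lE, map_mul, map_mul, map_inv levi]

/-- The step coefficients. -/
noncomputable def dlt (θ : Fˣ) (j : ℕ) : F := if j = 0 then (θ : F) else 1

theorem dlt_ne_zero (θ : Fˣ) (j : ℕ) : dlt θ j ≠ 0 := by
  unfold dlt; split_ifs <;> simp

theorem lE_inv_ev (θ : Fˣ) (j : ℕ) (hj : j < N + 2) :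
    gv (lE θ)⁻¹ (ev1 F N j) = ev1 F N j + dlt θ j • ev1 F N (j + 1) := by
  have e : (lE θ)⁻¹ = dg 0 θ⁻¹ * (dual (jg F (N + 2)))⁻¹ * (dg (0 : Fin (N + 2)) θ⁻¹)⁻¹ := by rw [lE]; group
  rw [e, ← map_inv (dg 0), inv_inv, gv_mul, gv_mul]
  have e1 : gv (dg 0 θ) (ev1 F N j) = dlt θ j • ev1 F N j := by
    funext p
    rw [gv_dg]
    by_cases hp : p = 0
    · subst hp
      by_cases h0 : j = 0
      · subst h0; simp [dlt, ev1]
      · simp [ev1, Ne.symm h0]
    · rw [Function.update_of_ne hp]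
      by_cases hpj : p.val = j
      · have : j ≠ 0 := fun h => hp (Fin.ext (by rw [Fin.val_zero]; omega))
        simp [ev1, dlt, this]
      · simp [ev1, hpj]
  rw [e1, gv_smul, gv_smul]
  have e2 : gv (dual (jg F (N + 2)))⁻¹ (ev1 F N j) = ev1 F N j + ev1 F N (j + 1) := by
    funext p
    show ((jm F (N + 2)).transpose *ᵥ ev1 F N j) p = _
    simp only [Matrix.mulVec, dotProduct, Matrix.transpose_apply]
    rw [Finset.sum_eq_single ⟨j, hj⟩]
    · simp only [jm, Matrix.of_apply, ev1, Pi.add_apply, if_true, mul_one]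
      by_cases h1 : p.val = j
      · simp [h1]
      · by_cases h2 : p.val = j + 1
        · simp [h1, h2, Ne.symm h1]
        · simp [h1, h2, Ne.symm h1, Ne.symm h2]
    · intro q _ hq
      simp [ev1, show q.val ≠ j from fun e => hq (Fin.ext e)]
    · simp
  rw [e2, gv_add]
  funext p
  simp only [Pi.smul_apply, Pi.add_apply, gv_dg, smul_eq_mul]
  by_cases hp : p = 0
  · subst hp
    by_cases h0 : j = 0
    · subst h0; simp [dlt, ev1]
    · simp [ev1, Ne.symm h0]
  · simp only [Function.update_of_ne hp]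
    by_cases h0 : j = 0
    · subst h0
      have : p.val ≠ 0 := fun h => hp (Fin.ext h)
      simp [dlt, ev1, this]
    · simp [dlt, h0]

theorem lE_apply_last (θ : Fˣ) {j : ℕ} (hj : j + 1 = N + 1) :
    gv (lE θ) (ev1 F N j) = ev1 F N j - dlt θ j • ev1 F N (N + 1) := by
  have h1 := lE_inv_ev (F := F) (N := N) θ j (by omega)
  have h2 := lE_inv_ev (F := F) (N := N) θ (N + 1) (by omega)
  have h3 : ev1 F N (N + 1 + 1) = 0 := funext fun q => if_neg (by omega)
  rw [h3, smul_zero, add_zero] at h2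
  rw [hj] at h1
  have h4 : gv (lE θ)⁻¹ (ev1 F N j - dlt θ j • ev1 F N (N + 1)) = ev1 F N j := by
    rw [sub_eq_add_neg, ← neg_smul, gv_add, gv_smul, h1, h2, neg_smul, add_neg_cancel_right]
  conv_lhs => rw [← h4, ← gv_mul, mul_inv_cancel, gv_one]

theorem B_topv_fr (x : V) (k : Fin (N + 2)) : B (topv x : Vec) (fr k) = -x k := by
  rw [B_swap, B_topv]
  simp [fr, Function.comp_def, Pi.single_apply, dotProduct]

theorem vE_topv (θ : Fˣ) {x : V} (hx : x (lst N) = 0) : (vE θ : SpN).1 *ᵥ topv x = topv (gv (lE θ) x) := by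
  rw [vE_eq, mul_apply, tv_apply, B_topv_fr, hx, neg_zero, mul_zero, zero_smul, add_zero, levi_topv]

theorem vE_inv_topv (θ : Fˣ) (x : V) : ((vE θ : SpN)⁻¹).1 *ᵥ topv x =
    Sum.elim (gv (lE θ)⁻¹ x) (gv (lE θ)⁻¹ x (lst N) • bv (lst N)) := by
  have e : (tv (fr (lst N)) (1 : F) : SpN)⁻¹ = tv (fr (lst N)) (-1) := by
    refine inv_eq_of_mul_eq_one_left ?_
    rw [tv_add, neg_add_cancel]
    exact ext_basis (fun i => by simp [tv_apply, one_apply]) (fun i => by simp [tv_apply, one_apply])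
  rw [vE_eq, _root_.mul_inv_rev, e, ← map_inv, mul_apply, levi_topv, tv_apply, B_topv_fr]
  funext p
  rcases p with p | p <;> simp [topv, fr, Pi.single_apply]

theorem vE_fr (θ : Fˣ) {p : ℕ} (hp : p + 1 < N + 2) :
    (vE θ : SpN).1 *ᵥ fr (⟨p + 1, hp⟩ : Fin (N + 2)) =
      fr (⟨p + 1, hp⟩ : Fin (N + 2)) + dlt θ p • fr (⟨p, by omega⟩ : Fin (N + 2)) := by
  rw [vE_eq, mul_apply, tv_apply, B_fr_fr, mul_zero, zero_smul, add_zero, levi_fr]
  funext q
  rcases q with q | q
  · simp [fr]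
  · simp only [Sum.elim_inr, fr, Pi.add_apply, Pi.smul_apply, Pi.single_apply, Sum.inr.injEq, smul_eq_mul]
    rw [← ev1_eq, lE_inv_ev θ q.val q.isLt]
    simp only [ev1, Pi.add_apply, Pi.smul_apply, smul_eq_mul, Fin.ext_iff]
    by_cases h1 : q.val = p
    · simp [h1]
    · by_cases h2 : q.val = p + 1
      · simp [h2]
      · simp [h1, h2, Ne.symm h1, Ne.symm h2]

variable {H : Subgroup (Matrix.symplecticGroup (Fin (N + 2)) F)}

/-- Scalars of the first long root group. -/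
def gam (H : Subgroup SpN) : AddSubgroup F where
  carrier := {c | InH H (sq c (ev1 F N 0))}
  zero_mem' := by simp [sq, InH.zero]
  add_mem' {a b} ha hb := by simpa [sq, add_smul] using InH.add ha hb
  neg_mem' {a} ha := by simpa [sq, neg_smul] using InH.neg ha

theorem mem_gam {c : F} : c ∈ gam H ↔ InH H (sq c (ev1 F N 0)) := Iff.rfl

theorem known_zero (h : gam H = ⊤) : Known H 0 := by
  intro x hx c
  have e : x = x 0 • ev1 F N 0 := by
    funext q
    by_cases hq : q = 0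
    · subst hq; simp [ev1]
    · have : q.val ≠ 0 := fun e => hq (Fin.ext e)
      rw [hx q (by omega)]; simp [ev1, this]
  rw [e, sq_smul, ← mem_gam, h]
  trivial

theorem eq_top_main (hu : uE F N ∈ H) (θ : Fˣ) (hv : (vE θ : SpN) ∈ H) (h : gam H = ⊤) : H = ⊤ := by
  have hlow : ∀ {i : ℕ}, Known H i → ∀ c : F, tv (topv (ev1 F N i) : Vec) c ∈ H := fun {i} hK c =>
    inH_sq_iff.1 (hK _ (Low.ev le_rfl) c)
  have hall : ∀ i, i ≤ N + 1 → Known H i := by
    intro i
    induction i with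
    | zero => exact fun _ => known_zero h
    | succ i ih =>
      intro hi
      have hK := ih (by omega)
      by_cases hl : i + 1 = N + 1
      · refine known_succ hu (by omega) hK (δ := -dlt θ i) (neg_ne_zero.2 (dlt_ne_zero θ i)) fun c =>
          inH_sq_iff.2 (tv_move hv (hlow hK c) ?_)
        rw [vE_topv θ (by simp [ev1]; omega), lE_apply_last θ hl, hl, neg_smul, ← sub_eq_add_neg]
      · refine known_succ hu (by omega) hK (dlt_ne_zero θ i) fun c =>
          inH_sq_iff.2 (tv_move (inv_mem hv) (hlow hK c) ?_)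
        rw [vE_inv_topv, lE_inv_ev θ i (by omega)]
        have e : (ev1 F N i + dlt θ i • ev1 F N (i + 1)) (lst N) = 0 := by
          simp [ev1, show N + 1 ≠ i by omega, show N ≠ i by omega]
        rw [e, zero_smul]
        rfl
  have hK := hall (N + 1) le_rfl
  have hlast : TI H (fr (lst N) : Vec) := by
    have h1 : TI H (topv (ev1 F N N) : Vec) := fun c => hlow (hall N (by omega)) c
    have h2 := h1.move (inv_mem hv)
    rw [vE_inv_topv, lE_inv_ev θ N (by omega)] at h2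
    refine TI_kill hK ?_ h2
    simp [ev1, dlt_ne_zero θ N]
  refine eq_top_of_known hK fun k => ?_
  have key : ∀ d : ℕ, ∀ k : Fin (N + 2), k.val + d = N + 1 → TI H (fr k : Vec) := by
    intro d
    induction d with
    | zero =>
      intro k hk
      obtain rfl : k = lst N := Fin.ext (by simp; omega)
      exact hlast
    | succ d ih =>
      intro k hk
      have hp : k.val + 1 < N + 2 := by omega
      set k' : Fin (N + 2) := ⟨k.val + 1, hp⟩ with hk'
      have hf := ih k' (by simp [k']; omega)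
      have h1 := hf.move hv
      rw [vE_fr θ hp] at h1
      have h2 := h1.move (flip_mem hK hf)
      have hne : k' ≠ k := fun e => by have := congrArg Fin.val e; simp [k'] at this
      rw [Matrix.mulVec_add, Matrix.mulVec_smul, ← hk', flip_fr, if_pos rfl, flip_fr, if_neg (Ne.symm hne)] at h2
      refine TI_kill (a := bv k') hK (dlt_ne_zero θ k.val) ?_
      convert h2 using 2
      funext p
      rcases p with p | p <;> simp [el, fr, Pi.single_apply]
  exact key (N + 1 - k.val) k (by omega)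

theorem gv_j_pair (x y : F) :
    gv (jg F (N + 2)) (x • ev1 F N 0 + y • ev1 F N 1) = (x + y) • ev1 F N 0 + y • ev1 F N 1 := by
  rw [gv_add, gv_smul, gv_smul, gv_jg_ev1_zero, gv_jg_ev1_succ 0 (by omega)]
  funext q
  simp only [Pi.add_apply, Pi.smul_apply, smul_eq_mul]
  ring

theorem dl_pair (a l : F) : dl (sq a (ev1 F N 0 + l • ev1 F N 1)) =
    sq (a * (2 * l + l * l)) (ev1 F N 0) + sy (a * (l * l)) (ev1 F N 0) (ev1 F N 1) := by
  have e := gv_j_pair (N := N) (1 : F) l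
  rw [one_smul] at e
  rw [dl_sq, e]
  ext i j
  simp [sq, sy, vecMulVec_apply]
  ring

theorem dl_two (a l : F) : dl (dl (sq a (ev1 F N 0 + l • ev1 F N 1))) = sq (2 * (a * (l * l))) (ev1 F N 0) := by
  rw [dl_pair, dl_add, dl_sq, dl_sy, gv_jg_ev1_zero, gv_jg_ev1_succ 0 (by omega)]
  ext i j
  simp [sq, sy, vecMulVec_apply]
  ring

theorem dl_three (hN : 1 ≤ N) (a α l : F) :
    dl (dl (dl (sq a (ev1 F N 0 + α • ev1 F N 1 + l • ev1 F N 2)))) =
      sy (3 * (a * (l * l))) (ev1 F N 0) (ev1 F N 1) + sq (6 * (a * (α * l)) + 6 * (a * (l * l))) (ev1 F N 0) := by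
  have h0 := gv_jg_ev1_zero (F := F) (N := N)
  have h1 := gv_jg_ev1_succ (F := F) (N := N) 0 (by omega)
  have h2 := gv_jg_ev1_succ (F := F) (N := N) 1 (by omega)
  simp only [dl_sq, dl_sub, gv_add, gv_smul, h0, h1, h2]
  ext i j
  simp [sq, sy, vecMulVec_apply]
  ring

/-- The scalars are closed, in odd characteristic. -/
theorem gam_top_odd [Fintype F] (hu : uE F N ∈ H) (θ : Fˣ) (hv : (vE θ : SpN) ∈ H)
    (hgen : ∀ a : F, ∃ P : Polynomial ℤ, Polynomial.aeval ((θ : F) ^ 2) P = a) (h2 : (2 : F) ≠ 0)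
    {a0 : F} (h0 : a0 ∈ gam H) (hne : a0 ≠ 0) : gam H = ⊤ := by
  obtain ⟨l, hl2, hl⟩ : ∃ l : F, l * l = (θ : F) * θ ∧ ∀ c : F, InH H (sq c (ev1 F N 0)) →
      InH H (sq c (ev1 F N 0 + l • ev1 F N 1)) := by
    rcases Nat.eq_zero_or_pos N with hN | hN
    · refine ⟨-(θ : F), by ring, fun c hc => inH_sq_iff.2 (tv_move hv (inH_sq_iff.1 hc) ?_)⟩
      rw [vE_topv θ (by simp [ev1]), lE_apply_last θ (j := 0) (by omega), hN, neg_smul, ← sub_eq_add_neg]
      simp [dlt]
    · refine ⟨(θ : F), rfl, fun c hc => inH_sq_iff.2 (tv_move (inv_mem hv) (inH_sq_iff.1 hc) ?_)⟩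
      rw [vE_inv_topv, lE_inv_ev θ 0 (by omega)]
      have e : (ev1 F N 0 + dlt θ 0 • ev1 F N (0 + 1)) (lst N) = 0 := by
        simp [ev1]; omega
      rw [e, zero_smul, dlt, if_pos rfl]
      rfl
  have step : ∀ a ∈ gam H, 2 * (a * ((θ : F) ^ 2)) ∈ gam H := fun a ha => by
    have := ((hl a ha).dl hu).dl hu
    rwa [dl_two, hl2, ← pow_two] at this
  obtain ⟨p, hpc⟩ := CharP.exists F
  haveI := hpc
  have hp : p.Prime := CharP.char_is_prime F p
  have hp2 : p ≠ 2 := fun e => h2 (by subst e; exact_mod_cast CharP.cast_eq_zero F 2)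
  obtain ⟨k, hk⟩ : ∃ k : ℕ, p + 1 = 2 * k := ⟨(p + 1) / 2, by
    have := hp.eq_two_or_odd.resolve_left hp2; omega⟩
  have hk1 : (k : F) * 2 = 1 := by
    have := congrArg (Nat.cast : ℕ → F) hk
    push_cast at this
    rw [CharP.cast_eq_zero, zero_add] at this
    rw [this]; ring
  refine closed_all _ ((θ : F) ^ 2) hgen h0 hne fun a ha => ?_
  have := nsmul_mem (step a ha) k
  rwa [nsmul_eq_mul, ← mul_assoc, hk1, one_mul, mul_comm] at this

/-- The scalars are closed, in characteristic two. -/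
theorem gam_top_two [Fintype F] (hN : 1 ≤ N) (hu : uE F N ∈ H) (θ : Fˣ) (hv : (vE θ : SpN) ∈ H)
    (hgen : ∀ a : F, ∃ P : Polynomial ℤ, Polynomial.aeval ((θ : F) ^ 2) P = a) (h2 : (2 : F) = 0)
    {a0 : F} (h0 : a0 ∈ gam H) (hne : a0 ≠ 0) : gam H = ⊤ := by
  have hlt : (ev1 F N 0 + dlt θ 0 • ev1 F N (0 + 1)) (lst N) = 0 := by simp [ev1]; omega
  have pair : ∀ c, InH H (sq c (ev1 F N 0)) → InH H (sq c (ev1 F N 0 + (θ : F) • ev1 F N 1)) := fun c hc => by
    refine inH_sq_iff.2 (tv_move (inv_mem hv) (inH_sq_iff.1 hc) ?_)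
    rw [vE_inv_topv, lE_inv_ev θ 0 (by omega), hlt, zero_smul, dlt, if_pos rfl]
    rfl
  obtain ⟨α, triple⟩ : ∃ α : F, ∀ c, InH H (sq c (ev1 F N 0)) →
      InH H (sq c (ev1 F N 0 + α • ev1 F N 1 + (θ : F) • ev1 F N 2)) := by
    by_cases hN1 : N = 1
    · refine ⟨-(θ : F), fun c hc => inH_sq_iff.2 (tv_move hv (inH_sq_iff.1 hc) ?_)⟩
      rw [vE_topv θ (by simp [ev1])]
      congr 1
      have a0' := lE_inv_ev (F := F) (N := N) θ 0 (by omega)
      have a1 := lE_inv_ev (F := F) (N := N) θ 1 (by omega)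
      have a2 := lE_inv_ev (F := F) (N := N) θ 2 (by omega)
      have a3 : ev1 F N 3 = 0 := funext fun q => if_neg (by omega)
      have h4 : gv (lE θ)⁻¹ (ev1 F N 0 + -(θ : F) • ev1 F N 1 + (θ : F) • ev1 F N 2) = ev1 F N 0 := by
        simp only [gv_add, gv_smul, a0', a1, a2, a3, dlt, smul_zero, add_zero, if_pos rfl]
        simp [smul_add, neg_smul]
      conv_lhs => rw [← h4, ← gv_mul, mul_inv_cancel, gv_one]
    · refine ⟨2 * (θ : F), fun c hc => inH_sq_iff.2 (tv_move (inv_mem hv) (inH_sq_iff.1 (pair c hc)) ?_)⟩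
      rw [vE_inv_topv, gv_add, gv_smul, lE_inv_ev θ 0 (by omega), lE_inv_ev θ 1 (by omega)]
      simp only [dlt, if_true, one_ne_zero, if_false, one_smul, zero_add]
      have e : ev1 F N 0 + (θ : F) • ev1 F N 1 + (θ : F) • (ev1 F N 1 + ev1 F N (1 + 1)) =
          ev1 F N 0 + (2 * (θ : F)) • ev1 F N 1 + (θ : F) • ev1 F N 2 := by
        rw [smul_add, two_mul, add_smul]; abel
      rw [e]
      have e2 : (ev1 F N 0 + (2 * (θ : F)) • ev1 F N 1 + (θ : F) • ev1 F N 2) (lst N) = 0 := by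
        simp [ev1, show N + 1 ≠ 2 by omega, show N ≠ 0 by omega]
      rw [e2, zero_smul]
      rfl
  refine closed_all _ ((θ : F) ^ 2) hgen h0 hne fun a ha => ?_
  have h3 := (((triple a ha).dl hu).dl hu).dl hu
  have h1 := (pair a ha).dl hu
  rw [dl_three hN, show (3 : F) = 2 + 1 by norm_num, show (6 : F) = 2 * 3 by norm_num, h2] at h3
  simp only [zero_add, one_mul, zero_mul, add_zero] at h3
  rw [dl_pair, h2, zero_mul, zero_add] at h1
  have e0 : sq (0 : F) (ev1 F N 0) = 0 := by simp [sq]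
  rw [e0, add_zero] at h3
  have := h1.sub h3
  rw [add_sub_cancel_right] at this
  rw [pow_two, mem_gam, mul_comm]
  exact this

end CfsgLib.SympReg
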